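import Groth.Agent.Lib.EGA2.Charpoly
import Mathlib.RingTheory.Noetherian.Basic
import Mathlib.RingTheory.Ideal.MinimalPrime.Noetherian
import Mathlib.LinearAlgebra.Charpoly.ToMatrix
import Mathlib.RingTheory.Localization.FractionRing
import Mathlib.RingTheory.Polynomial.Basic
import Mathlib.RingTheory.IntegralClosure.IsIntegralClosure.Basic

/-!
Integrality of the coefficients of characteristic polynomials over a reduced ring.
-/

universe u

open Polynomial

namespace Groth.Agent.CharInt11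

variable {R S : Type u} [CommRing R] [CommRing S] [Algebra R S]

/-- An element which is integral modulo every prime is integral. -/
theorem isIntegral_of_forall_prime [IsNoetherianRing S] [IsReduced S] (c : S)
    (h : ∀ 𝔭 ∈ minimalPrimes S, ∃ p : R[X], p.Monic ∧ aeval c p ∈ 𝔭) : IsIntegral R c := by
  classical
  have hfin := minimalPrimes.finite_of_isNoetherianRing S
  choose! p hp hpc using h
  refine ⟨∏ 𝔭 ∈ hfin.toFinset, p 𝔭, monic_prod_of_monic _ _ fun 𝔭 h𝔭 => hp 𝔭 (hfin.mem_toFinset.1 h𝔭), ?_⟩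
  refine IsReduced.eq_zero _ ((mem_nilradical).1 ?_)
  rw [nilradical, Ideal.radical_eq_sInf, Ideal.mem_sInf]
  rintro 𝔮 ⟨-, h𝔮⟩
  haveI := h𝔮
  obtain ⟨𝔭, h𝔭, hle⟩ := Ideal.exists_minimalPrimes_le (I := ⊥) (J := 𝔮) bot_le
  refine hle ?_
  change aeval c (∏ 𝔭 ∈ hfin.toFinset, p 𝔭) ∈ 𝔭
  rw [map_prod]
  exact Ideal.prod_mem _ (hfin.mem_toFinset.2 h𝔭) (hpc 𝔭 h𝔭)

set_option maxHeartbeats 1600000 in
/-- An integral matrix over a reduced Noetherian ring has integral characteristic coefficients. -/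
theorem isIntegral_matrix_charpoly_coeff [IsNoetherianRing S] [IsReduced S] {n : Type u} [Fintype n] [DecidableEq n]
    (M : Matrix n n S) (hM : IsIntegral R M) (j : ℕ) : IsIntegral R (M.charpoly.coeff j) := by
  obtain ⟨p, hp, hpM⟩ := hM
  refine isIntegral_of_forall_prime _ fun 𝔭 h𝔭 => ?_
  haveI : 𝔭.IsPrime := h𝔭.1.1
  let κ := FractionRing (S ⧸ 𝔭)
  let f : S →ₐ[R] κ := (IsScalarTower.toAlgHom R (S ⧸ 𝔭) κ).comp (Ideal.Quotient.mkₐ R 𝔭)
  let g : Matrix n n S →ₐ[R] Module.End κ (n → κ) :=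
    ((Matrix.toLinAlgEquiv' : Matrix n n κ ≃ₐ[κ] _).toAlgHom.restrictScalars R).comp f.mapMatrix
  have hw : aeval (g M) (p.map (algebraMap R κ)) = 0 := by
    rw [aeval_map_algebraMap, Polynomial.aeval_algHom_apply, show aeval M p = 0 from hpM, map_zero]
  obtain ⟨q, hq, hq0⟩ := EGA2.isIntegral_charpoly_coeff (g M) hp hw j
  refine ⟨q, hq, ?_⟩
  have e : (g M).charpoly.coeff j = f (M.charpoly.coeff j) := by
    rw [← LinearMap.charpoly_toMatrix _ (Pi.basisFun κ n)]
    have : LinearMap.toMatrix (Pi.basisFun κ n) (Pi.basisFun κ n) (g M) = M.map f := by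
      rw [LinearMap.toMatrix_eq_toMatrix']
      exact LinearMap.toMatrix'_toLin' _
    rw [this]
    erw [Matrix.charpoly_map M f.toRingHom, coeff_map]
    rfl
  rw [e] at hq0
  have h0 : f (aeval (M.charpoly.coeff j) q) = 0 := by
    rw [← Polynomial.aeval_algHom_apply]
    exact hq0
  exact Ideal.Quotient.eq_zero_iff_mem.1 ((map_eq_zero_iff _ (IsFractionRing.injective (S ⧸ 𝔭) κ)).1 h0)

end Groth.Agent.CharInt11
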